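import Mathlib.AlgebraicGeometry.Morphisms.Flat
import Mathlib.AlgebraicGeometry.Morphisms.FinitePresentation
import Mathlib.RingTheory.Flat.Basic

/-!
# Flatness and finite presentation pass to retracts
-/

set_option autoImplicit false

universe u

open CategoryTheory AlgebraicGeometry

noncomputable section

namespace Groth.L09.Artin

theorem finitePresentation_of_retract {R B C : Type u} [CommRing R] [CommRing B] [CommRing C] {f : R →+* B}
    {i : B →+* C} {p : C →+* B} (h : ∀ b, p (i b) = b) (hf : (i.comp f).FinitePresentation) :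
    f.FinitePresentation := by
  have hft := RingHom.FiniteType.of_finitePresentation hf
  algebraize [i.comp f]
  obtain ⟨s, hs⟩ := hft.out
  have hsurj : Function.Surjective p := fun b => ⟨i b, h b⟩
  let J : Ideal C := Ideal.span ((fun x => x - i (p x)) '' (s : Set C))
  have hJ : J = RingHom.ker p := by
    refine le_antisymm (Ideal.span_le.2 ?_) fun c hc => ?_
    · rintro _ ⟨x, -, rfl⟩
      simp [RingHom.mem_ker, h]
    · have hall : ∀ x, x - i (p x) ∈ J := fun x => by
        have hx : x ∈ Algebra.adjoin R (s : Set C) := by rw [hs]; exact Algebra.mem_top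
        induction hx using Algebra.adjoin_induction with
        | mem x hx => exact Ideal.subset_span ⟨x, hx, rfl⟩
        | algebraMap r =>
          show i (f r) - i (p (i (f r))) ∈ J
          rw [h, sub_self]
          exact J.zero_mem
        | add x y _ _ hx hy =>
          have e : x + y - i (p (x + y)) = (x - i (p x)) + (y - i (p y)) := by
            rw [map_add, map_add]; ring
          rw [e]
          exact J.add_mem hx hy
        | mul x y _ _ hx hy =>
          have e : x * y - i (p (x * y)) = x * (y - i (p y)) + i (p y) * (x - i (p x)) := by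
            rw [map_mul, map_mul]; ring
          rw [e]
          exact J.add_mem (J.mul_mem_left _ hy) (J.mul_mem_left _ hx)
      have := hall c
      rwa [RingHom.mem_ker.1 hc, map_zero, sub_zero] at this
  classical
  have hker : (RingHom.ker p).FG := hJ ▸ ⟨s.image (fun x => x - i (p x)), by simp [J]⟩
  have e : f = p.comp (i.comp f) := RingHom.ext fun r => (h (f r)).symm
  rw [e]
  exact RingHom.FinitePresentation.comp_surjective hf hsurj hker

theorem flat_of_retract {R B C : Type u} [CommRing R] [CommRing B] [CommRing C] {f : R →+* B}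
    {i : B →+* C} {p : C →+* B} (h : ∀ b, p (i b) = b) (hf : (i.comp f).Flat) : f.Flat := by
  algebraize [f, i.comp f]
  have : Module.Flat R C := hf
  suffices Module.Flat R B from this
  have hi : ∀ (r : R) (b : B), i (r • b) = r • i b := fun r b => map_mul i (f r) b
  have hp : ∀ (r : R) (c : C), p (r • c) = r • p c := fun r c =>
    (map_mul p (i (f r)) c).trans (congrArg (· * p c) (h (f r)))
  let i' : B →ₗ[R] C := { toFun := i, map_add' := map_add i, map_smul' := hi }
  let p' : C →ₗ[R] B := { toFun := p, map_add' := map_add p, map_smul' := hp }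
  exact Module.Flat.of_retract i' p' (LinearMap.ext h)

/-- The base of an affine retraction inherits flatness and finite presentation. -/
theorem flat_lfp_of_retract {Y T S : Scheme.{u}} (f : T ⟶ S) (π : Y ⟶ T) (σ : T ⟶ Y) (h : σ ≫ π = 𝟙 T)
    [IsAffineHom π] [Flat (π ≫ f)] [LocallyOfFinitePresentation (π ≫ f)] :
    Flat f ∧ LocallyOfFinitePresentation f := by
  have hid : ∀ {W : T.Opens} (g : T ⟶ T) (_ : g = 𝟙 T) (e : W ≤ g ⁻¹ᵁ W), g.appLE W W e = 𝟙 _ := by
    rintro W g rfl e
    rw [Scheme.Hom.appLE, Scheme.Hom.id_app]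
    erw [Category.id_comp]
    exact T.presheaf.map_id _
  have key : ∀ (U : S.affineOpens) (W : T.affineOpens) (e : W.1 ≤ f ⁻¹ᵁ U.1),
      ((π.appLE W.1 (π ⁻¹ᵁ W.1) le_rfl).hom.comp (f.appLE U W e).hom =
        ((π ≫ f).appLE U.1 (π ⁻¹ᵁ W.1) (fun y hy => e hy)).hom) ∧
      ∃ p : Γ(Y, π ⁻¹ᵁ W.1) →+* Γ(T, W.1), ∀ b, p ((π.appLE W.1 (π ⁻¹ᵁ W.1) le_rfl).hom b) = b := by
    intro U W e
    refine ⟨?_, ?_⟩
    · rw [← CommRingCat.hom_comp, Scheme.Hom.appLE_comp_appLE]
    · have he : W.1 ≤ σ ⁻¹ᵁ π ⁻¹ᵁ W.1 := by rw [← Scheme.Hom.comp_preimage, h]; exact le_refl _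
      refine ⟨(σ.appLE (π ⁻¹ᵁ W.1) W.1 he).hom, fun b => ?_⟩
      rw [← CommRingCat.comp_apply, Scheme.Hom.appLE_comp_appLE, hid _ h]
      rfl
  constructor
  · refine (HasRingHomProperty.iff_appLE (P := @Flat)).2 fun U W e => ?_
    obtain ⟨hc, p, hp⟩ := key U W e
    refine flat_of_retract hp ?_
    rw [hc]
    exact HasRingHomProperty.appLE @Flat (π ≫ f) inferInstance U ⟨_, W.2.preimage π⟩ _
  · refine (HasRingHomProperty.iff_appLE (P := @LocallyOfFinitePresentation)).2 fun U W e => ?_
    obtain ⟨hc, p, hp⟩ := key U W e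
    refine finitePresentation_of_retract hp ?_
    rw [hc]
    exact HasRingHomProperty.appLE @LocallyOfFinitePresentation (π ≫ f) inferInstance U ⟨_, W.2.preimage π⟩ _

end Groth.L09.Artin
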