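import Groth.Agent.L09.Artin.Atlas.Quot
import Groth.Agent.L09.Artin.Apps.Retract
import Groth.Agent.L24.LocQ.Descent
import Groth.Agent.L24.Alg.SourceFppf

/-!
# An algebraic classifying stack has a flat group of finite presentation
-/

set_option autoImplicit false
set_option backward.isDefEq.respectTransparency false
set_option backward.isDefEq.respectTransparency.types false

universe u

open CategoryTheory CategoryTheory.Limits MonoidalCategory CartesianMonoidalCategory MonObj AlgebraicGeometry AlgSp Opposite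

noncomputable section

namespace Groth.L09.Artin

open Groth.L24.Tors Groth.L24.St

variable {S : Scheme.{u}} {G : Over S} [GrpObj G] [IsAffineHom G.hom] {V : Over S}

variable (x : FibCat.overCat V ⥤ᵇ AlgSt.BG Scheme.fppfPrecoverage G)

/-- The torsor of a chart. -/
abbrev chartTors : AlgSt.QuotObj Scheme.fppfPrecoverage G (AlgSt.trivAction G) := x.obj (Over.mk (𝟙 V))

theorem exists_prop_torsor {P : MorphismProperty (Sp S)} (hP : PBase P) (hx : AlgSt.RepByAlgSpWith P x) :
    P ((yon S).map (toUnit (chartTors x).P)) := by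
  let aX := schAction (AlgSt.trivAction G)
  let x' := BasedFunctor.comp x (toSpQuot Scheme.fppfPrecoverage G (AlgSt.trivAction G))
  have hx' : AlgSt.RepByAlgSpWith P x' :=
    (repWith_postcomp isEquivOver_toSpQuot_fppf x).2 hx
  let X : Over S := 𝟙_ (Over S)
  let y0 : FibCat.overCat X ⥤ᵇ AlgSt.SpQuotSt Scheme.fppfPrecoverage ((schSp S).obj G) aX :=
    BasedFunctor.comp (AlgSt.ofOverCat X) (Quot.trivMap aX)
  obtain ⟨F, e, he, hPe⟩ := hx' X y0
  have := Quot.faithful_clsFun (y := x') (aX := aX)
  have := Quot.full_clsFun (y := x') (aX := aX)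
  have hcls : FibCat.IsEquivOver (Quot.clsFun (aX := aX) x') := isEquivOver_of_overId _ Quot.essSurj_clsFun
  let Θ₁ : FibCat.fp x' y0 ⥤ᵇ FibCat.fp x' (Quot.trivMap aX) :=
    fpMap (BasedFunctor.id _) (AlgSt.ofOverCat X) (Iso.refl _) (Iso.refl _)
  have h₁ : FibCat.IsEquivOver Θ₁ :=
    fpMap_isEquivOver (isEquivOver_id _) (ofOverCat_isEquivOver X) _ _
  let Φ := BasedFunctor.comp e (BasedFunctor.comp fpSwap (BasedFunctor.comp Θ₁ (Quot.clsFun (aX := aX) x')))
  have hΦ : FibCat.IsEquivOver Φ :=
    isEquivOver_comp he (isEquivOver_comp fpSwap_isEquivOver (isEquivOver_comp h₁ hcls))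
  let i : F.obj ⟶ (yon S).obj (chartTors x).P := spMap Φ
  have : IsIso i := isIso_spMap hΦ
  have h := hP.iso_left F.property (IsAlgSpace.yon_obj _) (IsAlgSpace.yon_obj X) (inv i) hPe
  convert h using 1
  exact hom_one_subsingleton _ _

theorem smooth_surjective_torsor (hs : AlgSt.RepByAlgSpWith (LocP @Smooth) x)
    (hj : AlgSt.RepByAlgSpWith IsSurjectiveMor x) :
    Smooth (chartTors x).P.hom ∧ Surjective (chartTors x).P.hom := by
  have e : (toUnit (chartTors x).P).left = (chartTors x).P.hom :=
    (Category.comp_id _).symm.trans (Over.w (toUnit (chartTors x).P))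
  refine ⟨e ▸ exists_prop_torsor x (pBase_locP Groth.L23.etLocal_smooth) hs (𝟙 _) (𝟙 _) (toUnit _)
    (Groth.L23.repWith_of_isIso _) (Groth.L23.repWith_of_isIso _)
    ((Category.id_comp _).trans (Category.comp_id _).symm), ⟨fun s => ?_⟩⟩
  obtain ⟨p, hp⟩ := exists_prop_torsor x pBase_surj hj (Points.ofScheme (𝟙_ (Over S)) s)
  obtain ⟨y, rfl⟩ := (Points.schemeEquiv (chartTors x).P).surjective p
  refine ⟨y, (Points.schemeEquiv (𝟙_ (Over S))).injective ?_⟩
  refine Eq.trans ?_ hp
  rw [← e]
  exact (Points.map_yon_map_apply _ _).symm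

omit [IsAffineHom G.hom] in
/-- A torsor is trivial over a flat surjective scheme of finite presentation over its base. -/
theorem exists_fppf_trivialisation {X : Over S} {aX : AlgGrp.Action G X}
    (A : AlgSt.QuotObj Scheme.fppfPrecoverage G aX) :
    ∃ (T : Over S) (h : T ⟶ A.base) (s : T ⟶ A.P),
      Flat h.left ∧ LocallyOfFinitePresentation h.left ∧ Surjective h.left ∧ s ≫ A.π = h := by
  obtain ⟨R, hR, hsec⟩ := A.loc
  obtain ⟨J', Y, f, rfl⟩ := R.exists_eq_ofArrows
  obtain ⟨hsurj, hfam⟩ := (Scheme.ofArrows_mem_precoverage_iff _).1 hR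
  choose i y hy using hsurj
  choose t ht using fun b => hsec (f (i b)) (.mk (i b))
  let Y' : A.base.left → Scheme.{u} := fun b => Y (i b)
  let d : (∐ Y') ⟶ A.base.left := Sigma.desc fun b => f (i b)
  have hd1 : Flat d := IsZariskiLocalAtSource.sigmaDesc fun b => (hfam (i b)).1
  have hd2 : LocallyOfFinitePresentation d := IsZariskiLocalAtSource.sigmaDesc fun b => (hfam (i b)).2
  have hd3 : Surjective d := ⟨fun b => ⟨(Sigma.ι Y' b) (y b), by
    rw [← Scheme.Hom.comp_apply, Sigma.ι_desc]; exact hy b⟩⟩
  let T : Over S := Over.mk (d ≫ A.base.hom)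
  have hw : Sigma.desc t ≫ A.π.left = d := Sigma.hom_ext _ _ fun b => by
    rw [← Category.assoc, Sigma.ι_desc, Sigma.ι_desc]
    exact ht b
  let s : T ⟶ A.P := Over.homMk (Sigma.desc t) (by
    show Sigma.desc t ≫ A.P.hom = d ≫ A.base.hom
    rw [← Over.w A.π, ← Category.assoc, hw])
  exact ⟨T, Over.homMk d rfl, s, hd1, hd2, hd3, Over.OverMorphism.ext hw⟩

/-- If the classifying stack of an affine group is algebraic, the group is flat of finite presentation. -/
theorem flat_lfp_of_isAlgStack_BG (h : AlgSt.IsAlgStack Scheme.fppfPrecoverage (AlgSt.BG Scheme.fppfPrecoverage G)) :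
    Flat G.hom ∧ LocallyOfFinitePresentation G.hom := by
  obtain ⟨V, x, hx, hxs⟩ := h.atlas
  obtain ⟨hP, hPs⟩ := smooth_surjective_torsor x hx hxs
  let A := chartTors x
  obtain ⟨T, b, s, hb1, hb2, hb3, hs⟩ := exists_fppf_trivialisation A
  have sq : IsPullback ((G ◁ s) ≫ A.act.act) (snd G T) A.π b := by
    have := (AlgSt.isPullback_whiskerLeft (G := G) s).paste_horiz A.cart
    rwa [hs] at this
  have sq' := sq.map (Over.forget S)
  let k := ((G ◁ s) ≫ A.act.act).left
  have k1 : Flat k := MorphismProperty.of_isPullback (P := @Flat) sq'.flip hb1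
  have k2 : LocallyOfFinitePresentation k :=
    MorphismProperty.of_isPullback (P := @LocallyOfFinitePresentation) sq'.flip hb2
  have k3 : Surjective k := MorphismProperty.of_isPullback (P := @Surjective) sq'.flip hb3
  have hk : (G ⊗ T).hom = k ≫ A.P.hom := (Over.w ((G ◁ s) ≫ A.act.act)).symm
  have g1 : Flat (G ⊗ T).hom := by rw [hk]; infer_instance
  have g2 : LocallyOfFinitePresentation (G ⊗ T).hom := by rw [hk]; infer_instance
  have g3 : Surjective (G ⊗ T).hom := by rw [hk]; infer_instance
  have pr := (AlgSt.isPullback_fst_snd G T).map (Over.forget S)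
  have ef : (toUnit G).left = G.hom := (Category.comp_id _).symm.trans (Over.w (toUnit G))
  have et : (toUnit T).left = T.hom := (Category.comp_id _).symm.trans (Over.w (toUnit T))
  have : IsAffineHom (snd G T).left := MorphismProperty.of_isPullback (P := @IsAffineHom) pr
    (show IsAffineHom (toUnit G).left by rw [ef]; infer_instance)
  have : Flat ((snd G T).left ≫ T.hom) := by rw [Over.w]; exact g1
  have : LocallyOfFinitePresentation ((snd G T).left ≫ T.hom) := by rw [Over.w]; exact g2
  obtain ⟨t1, t2⟩ := flat_lfp_of_retract T.hom (snd G T).left (lift (toUnit T ≫ η[G]) (𝟙 T)).left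
    (by rw [← Over.comp_left, lift_snd]; rfl)
  have t3 : Surjective T.hom := by
    have : Surjective ((snd G T).left ≫ T.hom) := by rw [Over.w]; exact g3
    exact Surjective.of_comp (snd G T).left T.hom
  have f1 : Flat (fst G T).left := MorphismProperty.of_isPullback (P := @Flat) pr.flip (show Flat (toUnit T).left by rwa [et])
  have f2 : LocallyOfFinitePresentation (fst G T).left :=
    MorphismProperty.of_isPullback (P := @LocallyOfFinitePresentation) pr.flip
      (show LocallyOfFinitePresentation (toUnit T).left by rwa [et])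
  have f3 : Surjective (fst G T).left :=
    MorphismProperty.of_isPullback (P := @Surjective) pr.flip (show Surjective (toUnit T).left by rwa [et])
  exact ⟨Groth.L24.LocQ.flat_of_comp_surjective (fst G T).left G.hom (by rwa [Over.w]),
    Groth.L24.Alg.locallyOfFinitePresentation_of_fppf_comp (fst G T).left G.hom (by rwa [Over.w])⟩

end Groth.L09.Artin
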