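import Groth.Prelude.Def_AlgSt2
import Groth.Agent.L09.StkGlue
import Groth.Agent.L09.GerbBasic
import Groth.Agent.L24.St.Yoneda

/-!
# Objects of a stack with the same descent datum are isomorphic
-/

set_option autoImplicit false
set_option backward.isDefEq.respectTransparency false
set_option backward.isDefEq.respectTransparency.types false

universe v₂ u₂ v u

open CategoryTheory Category Limits Functor

noncomputable section

namespace Groth.L09.Artin.Desc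

variable {C : Type u} [Category.{v} C] {J : GrothendieckTopology C} {𝒳 : BasedCategory.{v₂, u₂} C}

theorem lift_map {W : C} (G : FibCat.overCat W ⥤ᵇ 𝒳) {k l : Over W} (n : k ⟶ l) :
    𝒳.p.IsHomLift n.left (G.map n) :=
  (BasedFunctor.isHomLift_iff G n.left n).2 (IsHomLift.map (FibCat.overCat W).p n)

/-- Morphisms to an object given compatibly on a covering sieve glue. -/
theorem exists_glue (h𝒳 : Stk.IsStack J 𝒳) {T : C} (H : FibCat.overCat T ⥤ᵇ 𝒳) {b : 𝒳.obj}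
    (hb : 𝒳.p.obj b = T) {R : Sieve T} (hR : R ∈ J T) (m : ∀ k : Over T, R k.hom → (H.obj k ⟶ b))
    (hl : ∀ k hk, 𝒳.p.IsHomLift k.hom (m k hk))
    (hn : ∀ {k l : Over T} (n : k ⟶ l) (hk : R k.hom) (hl : R l.hom), H.map n ≫ m l hl = m k hk) :
    ∃ μ : H.obj (Over.mk (𝟙 T)) ⟶ b, 𝒳.p.IsHomLift (𝟙 T) μ ∧
      ∀ k hk, H.map (Fib.toTerm k) ≫ μ = m k hk := by
  have := Fib.isFibered_of_isFibGrpd _ h𝒳.1
  obtain ⟨Gy, φ, hφ⟩ := Groth.L24.St.exists_overCat_functor h𝒳.1 b hb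
  have hφ' : 𝒳.p.IsHomLift (𝟙 T) φ.hom := hφ.lift (Gy.w_obj _)
  let py : ∀ c : Over T, Gy.obj c ⟶ b := fun c => Gy.map (Fib.toTerm c) ≫ φ.hom
  have hpy : ∀ c : Over T, 𝒳.p.IsHomLift c.hom (py c) := fun c => by
    have : 𝒳.p.IsHomLift c.hom (Gy.map (Fib.toTerm c)) := lift_map Gy (Fib.toTerm c)
    exact IsHomLift.comp_lift_id_right' 𝒳.p c.hom (Gy.map (Fib.toTerm c)) T φ.hom
  have key : ∀ k : (Stk.sieveCat R).obj, ∃ χ : H.obj k.obj ⟶ Gy.obj k.obj,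
      𝒳.p.IsHomLift (𝟙 k.obj.left) χ ∧ χ ≫ py k.obj = m k.obj k.property := fun k => by
    have := hpy k.obj
    have := hl k.obj k.property
    obtain ⟨χ, h1, h2⟩ := Groth.L09.Gerb.connect h𝒳.1 k.obj.hom (m k.obj k.property) (py k.obj)
    exact ⟨χ.hom, h1, h2⟩
  choose χ hχ hχm using key
  let γ : (Stk.resSieve R 𝒳).obj H ⟶ (Stk.resSieve R 𝒳).obj Gy :=
    { app := χ
      naturality := fun k l n => by
        show H.map n.hom ≫ χ l = χ k ≫ Gy.map n.hom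
        have := hpy l.obj
        have := hχ k
        have := hχ l
        have := lift_map H n.hom
        have := lift_map Gy n.hom
        have := Fib.stronglyCartesian_of_isFibGrpd 𝒳.p h𝒳.1 l.obj.hom (py l.obj)
        have : 𝒳.p.IsHomLift n.hom.left (H.map n.hom ≫ χ l) :=
          IsHomLift.comp_lift_id_right 𝒳.p n.hom.left _ _
        have : 𝒳.p.IsHomLift n.hom.left (χ k ≫ Gy.map n.hom) :=
          IsHomLift.comp_lift_id_left' 𝒳.p k.obj.left (χ k) n.hom.left _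
        refine IsStronglyCartesian.ext 𝒳.p l.obj.hom (py l.obj) n.hom.left ?_
        have hy : Gy.map n.hom ≫ py l.obj = py k.obj :=
          (assoc _ _ _).symm.trans (congrArg (· ≫ φ.hom) ((Gy.toFunctor.map_comp _ _).symm.trans
            (congrArg Gy.map (Over.OverMorphism.ext (Over.w n.hom) : n.hom ≫ Fib.toTerm l.obj = Fib.toTerm k.obj))))
        rw [assoc, assoc, hy, hχm, hχm]
        exact hn n.hom k.property l.property
      isHomLift' := hχ }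
  haveI : (Stk.resSieve R 𝒳).IsEquivalence := h𝒳.2 R hR
  obtain ⟨t, ht⟩ := (Stk.resSieve R 𝒳).map_surjective γ
  have ht0 : 𝒳.p.IsHomLift (𝟙 T) (t.toNatTrans.app (Over.mk (𝟙 T))) := t.isHomLift' (Over.mk (𝟙 T))
  refine ⟨t.toNatTrans.app (Over.mk (𝟙 T)) ≫ φ.hom,
    IsHomLift.comp_lift_id_left' 𝒳.p T _ (𝟙 T) φ.hom, fun k hk => ?_⟩
  have hk' : t.toNatTrans.app k = χ ⟨k, hk⟩ :=
    congrArg (fun t => t.toNatTrans.app (⟨k, hk⟩ : (Stk.sieveCat R).obj)) ht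
  calc H.map (Fib.toTerm k) ≫ t.toNatTrans.app (Over.mk (𝟙 T)) ≫ φ.hom
      = (H.map (Fib.toTerm k) ≫ t.toNatTrans.app (Over.mk (𝟙 T))) ≫ φ.hom := (assoc _ _ _).symm
    _ = (t.toNatTrans.app k ≫ Gy.map (Fib.toTerm k)) ≫ φ.hom :=
        congrArg (· ≫ φ.hom) (t.toNatTrans.naturality (Fib.toTerm k))
    _ = χ ⟨k, hk⟩ ≫ py k := (assoc _ _ _).trans (congrArg (· ≫ py k) hk')
    _ = m k hk := hχm ⟨k, hk⟩

section Pair

variable [HasPullbacks C] {R W : C} {h : W ⟶ R} (G : FibCat.overCat W ⥤ᵇ 𝒳)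

/-- The first projection of the self product, over `W`. -/
abbrev pr₁ (h : W ⟶ R) : Over W := Over.mk (pullback.fst h h)

/-- The second projection of the self product, over `W`. -/
abbrev pr₂ (h : W ⟶ R) : Over W := Over.mk (pullback.snd h h)

/-- A morphism out of the value of a functor, read at an object of the slice. -/
abbrev trav {a : 𝒳.obj} (ξ : G.obj (Over.mk (𝟙 W)) ⟶ a) (k : Over W) : G.obj k ⟶ a :=
  G.map (Fib.toTerm k) ≫ ξ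

theorem trav_lift {a : 𝒳.obj} (ξ : G.obj (Over.mk (𝟙 W)) ⟶ a) [𝒳.p.IsHomLift h ξ] (k : Over W) :
    𝒳.p.IsHomLift (k.hom ≫ h) (trav G ξ k) := by
  have := lift_map G (Fib.toTerm k)
  exact inferInstanceAs (𝒳.p.IsHomLift ((Fib.toTerm k).left ≫ h) (G.map (Fib.toTerm k) ≫ ξ))

theorem map_trav {a : 𝒳.obj} (ξ : G.obj (Over.mk (𝟙 W)) ⟶ a) {k l : Over W} (n : k ⟶ l) :
    G.map n ≫ trav G ξ l = trav G ξ k :=
  (assoc _ _ _).symm.trans (congrArg (· ≫ ξ) ((G.toFunctor.map_comp _ _).symm.trans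
    (congrArg G.map (Over.OverMorphism.ext (Over.w n) : n ≫ Fib.toTerm l = Fib.toTerm k))))

theorem exists_datum (h𝒳 : FibCat.IsFibGrpd 𝒳.p) {a : 𝒳.obj} (ξ : G.obj (Over.mk (𝟙 W)) ⟶ a)
    [𝒳.p.IsHomLift h ξ] :
    ∃ φ : G.obj (pr₁ h) ⟶ G.obj (pr₂ h), 𝒳.p.IsHomLift (𝟙 (pullback h h)) φ ∧
      φ ≫ trav G ξ (pr₂ h) = trav G ξ (pr₁ h) := by
  have h1 : 𝒳.p.IsHomLift (pullback.snd h h ≫ h) (trav G ξ (pr₁ h)) := by
    rw [← pullback.condition]; exact trav_lift G ξ (pr₁ h)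
  have h2 : 𝒳.p.IsHomLift (pullback.snd h h ≫ h) (trav G ξ (pr₂ h)) := trav_lift G ξ (pr₂ h)
  obtain ⟨χ, hχ, hχ'⟩ := Groth.L09.Gerb.connect h𝒳 (pullback.snd h h ≫ h) (trav G ξ (pr₁ h)) (trav G ξ (pr₂ h))
  exact ⟨χ.hom, hχ, hχ'⟩

/-- Two objects with the same descent datum along a cover are isomorphic. -/
theorem exists_hom_of_datum_eq (h𝒳 : Stk.IsStack J 𝒳) (hh : Sieve.generate (Presieve.singleton h) ∈ J R)
    {a a' : 𝒳.obj} (ha : 𝒳.p.obj a = R) (ha' : 𝒳.p.obj a' = R)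
    (ξ : G.obj (Over.mk (𝟙 W)) ⟶ a) [𝒳.p.IsHomLift h ξ]
    (ξ' : G.obj (Over.mk (𝟙 W)) ⟶ a') [𝒳.p.IsHomLift h ξ']
    (φ : G.obj (pr₁ h) ⟶ G.obj (pr₂ h)) [𝒳.p.IsHomLift (𝟙 (pullback h h)) φ]
    (hφ : φ ≫ trav G ξ (pr₂ h) = trav G ξ (pr₁ h)) (hφ' : φ ≫ trav G ξ' (pr₂ h) = trav G ξ' (pr₁ h)) :
    ∃ μ : a ⟶ a', 𝒳.p.IsHomLift (𝟙 R) μ := by
  obtain ⟨H, ι, hι⟩ := Groth.L24.St.exists_overCat_functor h𝒳.1 a ha
  have hι' : 𝒳.p.IsHomLift (𝟙 R) ι.hom := hι.lift (H.w_obj _)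
  let base : ∀ k : Over R, H.obj k ⟶ a := fun k => H.map (Fib.toTerm k) ≫ ι.hom
  have hbase : ∀ k : Over R, 𝒳.p.IsHomLift k.hom (base k) := fun k => by
    have : 𝒳.p.IsHomLift k.hom (H.map (Fib.toTerm k)) := lift_map H (Fib.toTerm k)
    exact IsHomLift.comp_lift_id_right' 𝒳.p k.hom (H.map (Fib.toTerm k)) R ι.hom
  -- a morphism with a lift to the cover determines the comparison
  let Rel : ∀ k : Over R, (H.obj k ⟶ a') → Prop := fun k μ => ∃ (g : k.left ⟶ W) (χ : H.obj k ⟶ G.obj (Over.mk g)),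
    g ≫ h = k.hom ∧ 𝒳.p.IsHomLift (𝟙 k.left) χ ∧ χ ≫ trav G ξ (Over.mk g) = base k ∧
      μ = χ ≫ trav G ξ' (Over.mk g)
  have indep : ∀ k μ μ', Rel k μ → Rel k μ' → μ = μ' := by
    rintro k _ _ ⟨g₁, χ₁, hg₁, hl₁, hc₁, rfl⟩ ⟨g₂, χ₂, hg₂, hl₂, hc₂, rfl⟩
    let q : k.left ⟶ pullback h h := pullback.lift g₁ g₂ (hg₁.trans hg₂.symm)
    let q₁ : Over.mk g₁ ⟶ pr₁ h := Over.homMk q (pullback.lift_fst _ _ _)
    let q₂ : Over.mk g₂ ⟶ pr₂ h := Over.homMk q (pullback.lift_snd _ _ _)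
    have hq₁ : 𝒳.p.IsHomLift q (G.map q₁) := lift_map G q₁
    have hq₂ : 𝒳.p.IsHomLift q (G.map q₂) := lift_map G q₂
    have : 𝒳.p.IsHomLift q (G.map q₁ ≫ φ) := IsHomLift.comp_lift_id_right 𝒳.p q (G.map q₁) φ
    obtain ⟨ω, hω, hω'⟩ := Groth.L09.Gerb.connect h𝒳.1 q (G.map q₁ ≫ φ) (G.map q₂)
    have e : ∀ {z : 𝒳.obj} (ζ : G.obj (Over.mk (𝟙 W)) ⟶ z),
        φ ≫ trav G ζ (pr₂ h) = trav G ζ (pr₁ h) → ω.hom ≫ trav G ζ (Over.mk g₂) = trav G ζ (Over.mk g₁) :=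
      fun ζ hζ => by
        rw [← map_trav G ζ q₂, ← map_trav G ζ q₁, ← assoc, hω', assoc, hζ]
    have hs : 𝒳.p.IsHomLift (g₂ ≫ h) (trav G ξ (Over.mk g₂)) := trav_lift G ξ (Over.mk g₂)
    have := Fib.stronglyCartesian_of_isFibGrpd 𝒳.p h𝒳.1 (g₂ ≫ h) (trav G ξ (Over.mk g₂))
    have : 𝒳.p.IsHomLift (𝟙 k.left) (χ₁ ≫ ω.hom) := IsHomLift.comp_lift_id_left' 𝒳.p k.left χ₁ (𝟙 k.left) ω.hom
    have eχ : χ₁ ≫ ω.hom = χ₂ := IsCartesian.ext 𝒳.p (g₂ ≫ h) (trav G ξ (Over.mk g₂)) _ _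
      (by rw [assoc, e ξ hφ, hc₁, hc₂])
    rw [← eχ, assoc, e ξ' hφ']
  have ex : ∀ k : Over R, Sieve.generate (Presieve.singleton h) k.hom → ∃ μ, Rel k μ ∧ 𝒳.p.IsHomLift k.hom μ := by
    rintro k ⟨Z, g, f, hf, hg⟩
    cases hf
    have h1 := hbase k
    have h2 : 𝒳.p.IsHomLift k.hom (trav G ξ (Over.mk g)) := by
      rw [← hg]; exact trav_lift G ξ (Over.mk g)
    have h3 : 𝒳.p.IsHomLift k.hom (trav G ξ' (Over.mk g)) := by
      rw [← hg]; exact trav_lift G ξ' (Over.mk g)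
    obtain ⟨χ, hχ, hχ'⟩ := Groth.L09.Gerb.connect h𝒳.1 k.hom (base k) (trav G ξ (Over.mk g))
    exact ⟨_, ⟨g, χ.hom, hg, hχ, hχ', rfl⟩, IsHomLift.comp_lift_id_left' 𝒳.p k.left χ.hom k.hom _⟩
  choose m hm hml using ex
  obtain ⟨μ, hμ, -⟩ := exists_glue h𝒳 H ha' hh m hml fun {k l} n hk hl => indep k _ _ (by
    obtain ⟨g, χ, hg, hlχ, hc, he⟩ := hm l hl
    let n' : Over.mk (n.left ≫ g) ⟶ Over.mk g := Over.homMk n.left rfl
    have := lift_map H n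
    have : 𝒳.p.IsHomLift n.left (G.map n') := lift_map G n'
    have : 𝒳.p.IsHomLift n.left (H.map n ≫ χ) := IsHomLift.comp_lift_id_right 𝒳.p n.left (H.map n) χ
    obtain ⟨χ', hχ', hχe⟩ := Groth.L09.Gerb.connect h𝒳.1 n.left (H.map n ≫ χ) (G.map n')
    refine ⟨n.left ≫ g, χ'.hom, by rw [assoc, hg, Over.w n], hχ', ?_, ?_⟩
    · rw [← map_trav G ξ n', ← assoc, hχe, assoc, hc]
      exact (assoc _ _ _).symm.trans (congrArg (· ≫ ι.hom) ((H.toFunctor.map_comp _ _).symm.trans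
        (congrArg H.map (Over.OverMorphism.ext (Over.w n) : n ≫ Fib.toTerm l = Fib.toTerm k))))
    · rw [he, ← map_trav G ξ' n', ← assoc χ'.hom, hχe, assoc]) (hm k hk)
  have hinv : 𝒳.p.IsHomLift (𝟙 R) ι.inv := hι.inv.lift ha
  exact ⟨ι.inv ≫ μ, IsHomLift.comp_lift_id_left' 𝒳.p R ι.inv (𝟙 R) μ⟩

end Pair

end Groth.L09.Artin.Desc
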