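import Groth.Agent.L09.Artin.Atlas.Main
import Groth.Agent.L24.St.AlgStackInv
import Groth.Agent.L24.St.DiagAbs
import Groth.Agent.L24.LocQ.Descent

/-!
# Stacks with a flat atlas smooth over the base are smooth
-/

set_option autoImplicit false
set_option backward.isDefEq.respectTransparency false
set_option backward.isDefEq.respectTransparency.types false

universe v w u

open CategoryTheory AlgebraicGeometry AlgSp

noncomputable section

namespace Groth.L09.Artin

open Groth.L24.St

variable {S : Scheme.{u}}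

/-- A chart with a property over the base reads the property of the structure functor. -/
theorem locQ_toSelf_of_chart {Q : MorphismProperty Scheme.{u}} (hQ : Groth.L23.EtLocal Q)
    {𝒳 : BasedCategory.{v, w} (Over S)} {V : Over S} (x : FibCat.overCat V ⥤ᵇ 𝒳)
    (hx : AlgSt.RepByAlgSpWith (LocP @Smooth) x) (hxs : AlgSt.RepByAlgSpWith IsSurjectiveMor x) (hV : Q V.hom) :
    AlgSt.LocQ (LocP Q) (FibCat.toSelf 𝒳) := by
  let h : V ⟶ Over.mk (𝟙 S) := Over.homMk V.hom (Category.comp_id _)
  haveI : MorphismProperty.ContainsIdentities (@Smooth : MorphismProperty Scheme.{u}) := ⟨fun _ => inferInstance⟩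
  refine ⟨V, Over.mk (𝟙 S), x, FibCat.toSelf (FibCat.overCat (Over.mk (𝟙 S))), h,
    toSelfIso x ≪≫ (toSelfIso (AlgSt.overMap h)).symm, hx, hxs, repWith_of_isEquivOver (fun _ _ _ _ a ha => ?_)
      toSelf_isEquivOver_of_terminal, (Groth.L24.LocQ.locP_map_iff hQ h).2 hV⟩
  exact Groth.L23.locP_of_repWith Groth.L23.etLocal_smooth
    (Groth.L23.repWith_of_isIso (P := @Smooth) a)

/-- A stack with a flat atlas from a scheme smooth over the base is smooth over the base. -/
theorem locQ_smooth_toSelf_of_atl {𝒳 : AlgSt.Cat S} {U : Over S} {f : FibCat.overCat U ⥤ᵇ 𝒳} (hA : Cand.Atl f)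
    (hU : Smooth U.hom) : AlgSt.LocQ (LocP @Smooth) (FibCat.toSelf 𝒳) := by
  obtain ⟨V, q, hq, hqs, hV⟩ := Cand.exists_smooth_atlas hA
  exact locQ_toSelf_of_chart Groth.L23.etLocal_smooth q hq hqs (hV hU)

end Groth.L09.Artin
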