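import Groth.Agent.L23.Glue
import Groth.Agent.L23.Basic
import Groth.Agent.L24.Boot.LqfBase
import Mathlib.AlgebraicGeometry.Sites.AffineEtale

/-!
# The sections of an algebraic space form a small set
-/

set_option autoImplicit false
set_option backward.isDefEq.respectTransparency false
set_option backward.isDefEq.respectTransparency.types false

universe u

open CategoryTheory CategoryTheory.Limits AlgebraicGeometry AlgSp

noncomputable section

namespace Groth.L09.Artin.Small

variable {S : Scheme.{u}}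

/-- An affine scheme etale over a scheme, as a scheme over the base. -/
abbrev etObj (T : Over S) (W : SmallModel.{u} (Scheme.AffineEtale T.left)) : Over S :=
  Over.mk (((Scheme.AffineEtale.Spec T.left).obj ((equivSmallModel _).inverse.obj W)).hom ≫ T.hom)

/-- Its structure map. -/
abbrev etMap (T : Over S) (W : SmallModel.{u} (Scheme.AffineEtale T.left)) : etObj T W ⟶ T :=
  Over.homMk ((Scheme.AffineEtale.Spec T.left).obj ((equivSmallModel _).inverse.obj W)).hom rfl

set_option maxRecDepth 2000 in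
theorem small_hom_yon {F : Sp S} (hF : IsAlgSpace F) (T : Over S) : Small.{u} ((yon S).obj T ⟶ F) := by
  obtain ⟨Z, p, hp, hps⟩ := hF.atlas
  let code : ((yon S).obj T ⟶ F) → Set (Σ W : SmallModel.{u} (Scheme.AffineEtale T.left), etObj T W ⟶ Z) :=
    fun s => {x | (yon S).map (etMap T x.1) ≫ s = (yon S).map x.2 ≫ p}
  refine small_of_injective (f := code) fun s s' e => ?_
  obtain ⟨P, g, m, sq⟩ := hp.1 s
  have hg : Etale g.left := hp.2 s _ g sq
  have hgs : Surjective g.left := hps.2 s _ g sq
  have hs : (yon S).map g ≫ s = m ≫ p := sq.w.symm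
  obtain ⟨m, rfl⟩ := (yon S).map_surjective m
  refine Groth.L24.Boot.hom_ext_fppf g ?_
  let I : Type u := P.left.affineOpens
  let O : I → Over S := fun i => Over.mk (i.1.ι ≫ P.hom)
  let ι : ∀ i, O i ⟶ P := fun i => Over.homMk i.1.ι rfl
  have hι : ∀ i, IsOpenImmersion (ι i).left := fun i => inferInstanceAs (IsOpenImmersion i.1.ι)
  refine Groth.L23.hom_ext_cover ι (fun x => ?_) fun i => ?_
  · obtain ⟨O', hO', hx, -⟩ := exists_isAffineOpen_mem_and_subset (x := x) (U := ⊤) trivial
    exact ⟨⟨O', hO'⟩, ⟨x, hx⟩, rfl⟩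
  let f : Spec Γ(P.left, i.1) ⟶ T.left := (IsAffineOpen.fromSpec i.2) ≫ g.left
  have : Etale f := inferInstanceAs (Etale (IsAffineOpen.fromSpec i.2 ≫ g.left))
  let A := Scheme.AffineEtale.mk (S := T.left) f
  let W := (equivSmallModel (Scheme.AffineEtale T.left)).functor.obj A
  let φ := (Scheme.AffineEtale.Spec T.left).mapIso ((equivSmallModel (Scheme.AffineEtale T.left)).unitIso.app A)
  have hφ : φ.hom.left ≫ (etMap T W).left = f := MorphismProperty.Over.w φ.hom
  let k : O i ⟶ etObj T W := Over.homMk (i.2.isoSpec.hom ≫ φ.hom.left) (by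
    show (i.2.isoSpec.hom ≫ φ.hom.left) ≫ (etMap T W).left ≫ T.hom = i.1.ι ≫ P.hom
    rw [Category.assoc, reassoc_of% hφ]
    simp only [f, Category.assoc, Over.w g]
    rw [IsAffineOpen.isoSpec_hom_fromSpec_assoc])
  have hk : k ≫ etMap T W = ι i ≫ g := Over.OverMorphism.ext (by
    show (i.2.isoSpec.hom ≫ φ.hom.left) ≫ (etMap T W).left = i.1.ι ≫ g.left
    rw [Category.assoc, hφ]
    simp only [f]
    rw [IsAffineOpen.isoSpec_hom_fromSpec_assoc])
  have : IsIso k.left := inferInstanceAs (IsIso (i.2.isoSpec.hom ≫ φ.hom.left))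
  let k' : etObj T W ⟶ O i := Over.homMk (inv k.left) (by rw [IsIso.inv_comp_eq, Over.w k])
  have hk' : k' ≫ k = 𝟙 _ := Over.OverMorphism.ext (IsIso.inv_hom_id k.left)
  have hmem : (⟨W, k' ≫ ι i ≫ m⟩ : Σ W, etObj T W ⟶ Z) ∈ code s := by
    show (yon S).map (etMap T W) ≫ s = (yon S).map (k' ≫ ι i ≫ m) ≫ p
    rw [← Category.id_comp (etMap T W), ← hk', Category.assoc, hk]
    simp only [Functor.map_comp, Category.assoc, hs]
  have hmem' := e ▸ hmem
  change (yon S).map (etMap T W) ≫ s' = (yon S).map (k' ≫ ι i ≫ m) ≫ p at hmem'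
  have h1 : (yon S).map (etMap T W) ≫ s' = (yon S).map (etMap T W) ≫ s := hmem'.trans (Eq.symm hmem)
  have h2 := congrArg (fun z => (yon S).map k ≫ z) h1
  rw [← Functor.map_comp_assoc, ← Functor.map_comp_assoc, hk, Functor.map_comp, Category.assoc, Category.assoc] at h2
  exact h2.symm

end Groth.L09.Artin.Small
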