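import Groth.Agent.L09.Artin.Apps.Descent
import Groth.Agent.L09.Artin.Apps.Small
import Groth.Agent.L09.Artin.Apps.LocQ
import Groth.Agent.L24.Tors.QuotProps
import Groth.Agent.L24.Boot.LqfBase

/-!
# Stacks with a flat atlas from a scheme have small models
-/

set_option autoImplicit false
set_option backward.isDefEq.respectTransparency false
set_option backward.isDefEq.respectTransparency.types false

universe v w u

open CategoryTheory CategoryTheory.Limits AlgebraicGeometry AlgSp Opposite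

noncomputable section

namespace Groth.L09.Artin.Model

open Groth.L24.St
open Groth.L09.Artin.Res (FLP)

variable {S : Scheme.{u}} {𝒳 : BasedCategory.{v, w} (Over S)} {U : Over S} {f : FibCat.overCat U ⥤ᵇ 𝒳}

theorem left_eq_of_lift {W : Over S} {a b : Over U} (m : a ⟶ b) (ha : a.left = W) (hb : b.left = W)
    [(FibCat.overCat U).p.IsHomLift (𝟙 W) m] : m.left = eqToHom (ha.trans hb.symm) := by
  have h := IsHomLift.fac' (FibCat.overCat U).p (𝟙 W) m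
  change m.left = _ at h
  rw [h, Category.id_comp, eqToHom_trans]

theorem exists_eltIso {F : (Over S)ᵒᵖ ⥤ Type (u + 1)} {𝒵 : BasedCategory.{v, w} (Over S)} (Φ : 𝒵 ⥤ᵇ Stk.ofPsh F) {x y : 𝒵.obj}
    (e : 𝒵.p.obj x = 𝒵.p.obj y) (h : F.map (eqToHom e).op (secAt Φ y) = secAt Φ x) :
    ∃ ε : Φ.obj x ≅ Φ.obj y, OverId (𝒳 := Stk.ofPsh F) ε.hom := by
  refine ⟨eltIso ((baseEq Φ x).trans (e.trans (baseEq Φ y).symm)) ?_, eltIso_overId _ _⟩
  have h' := congrArg (F.map (eqToHom (baseEq Φ x)).op) h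
  simp only [secAt, map_eqToHom_trans] at h'
  simpa using h'

/-- The vertical morphisms to the value of a representable functor at one point form a small set. -/
theorem small_vert_chart {P : MorphismProperty (Sp S)} (hg : FibCat.IsFibGrpd 𝒳.p)
    (hp : AlgSt.RepByAlgSpWith P f) {W : Over S} (a : 𝒳.obj) (ha : 𝒳.p.obj a = W) (t : W ⟶ U) :
    Small.{u} {φ : a ⟶ f.obj (Over.mk t) // 𝒳.p.IsHomLift (𝟙 W) φ} := by
  obtain ⟨G, ι, hι⟩ := exists_overCat_functor hg a ha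
  obtain ⟨F, e, he, -⟩ := hp W G
  obtain ⟨c, hc, -, -⟩ := exists_inverse he
  have hι' : 𝒳.p.IsHomLift (𝟙 W) ι.hom := hι.lift (G.w_obj _)
  have hiso : ∀ φ : {φ : a ⟶ f.obj (Over.mk t) // 𝒳.p.IsHomLift (𝟙 W) φ}, IsIso φ.1 := fun φ =>
    haveI := φ.2
    Groth.L09.Fib.isIso_of_isFibGrpd 𝒳.p hg (𝟙 W) φ.1
  let i : ∀ φ : {φ : a ⟶ f.obj (Over.mk t) // 𝒳.p.IsHomLift (𝟙 W) φ},
      G.obj (idObj W) ≅ f.obj (Over.mk t) := fun φ => ι ≪≫ @asIso _ _ _ _ φ.1 (hiso φ)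
  have hi : ∀ φ, OverId (i φ).hom := fun φ =>
    haveI := φ.2
    overId_of_lift (R := W) (IsHomLift.comp_lift_id_left' 𝒳.p W ι.hom (𝟙 W) φ.1)
  let z : {φ : a ⟶ f.obj (Over.mk t) // 𝒳.p.IsHomLift (𝟙 W) φ} → (FibCat.fp G f).obj :=
    fun φ => fpObj (idObj W) (Over.mk t) (i φ) (hi φ)
  let code : {φ : a ⟶ f.obj (Over.mk t) // 𝒳.p.IsHomLift (𝟙 W) φ} → F.obj.obj.obj (op W) :=
    fun φ => secAt c (z φ)
  have hsmall : Small.{u} (F.obj.obj.obj (op W)) :=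
    (small_congr (AlgSp.J S).uliftYonedaEquiv).1 (Small.small_hom_yon F.property W)
  refine small_of_injective (f := code) fun φ φ' h => ?_
  obtain ⟨ε, hε₀⟩ := exists_eltIso c (x := z φ) (y := z φ') rfl (by erw [F.obj.obj.map_id]; exact h.symm)
  obtain ⟨hful, hfai⟩ := eqv_fullFaithful hc
  obtain ⟨m, hm⟩ := c.toFunctor.map_surjective ε.hom
  have hε : (AlgSt.ofSp F.obj).p.IsHomLift (𝟙 W) ε.hom :=
    hε₀.lift (baseEq c (z φ))
  have hml : (FibCat.fp G f).p.IsHomLift (𝟙 W) m := by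
    rw [← hm] at hε
    exact (BasedFunctor.isHomLift_iff c _ m).1 hε
  have h1 : m.hom.fst = 𝟙 _ := by
    apply Over.OverMorphism.ext
    haveI : (FibCat.overCat W).p.IsHomLift (𝟙 W) ((FibCat.fpFst G f).map m) :=
      (BasedFunctor.isHomLift_iff (FibCat.fpFst G f) (𝟙 W) m).2 hml
    exact @left_eq_of_lift _ _ W _ _ ((FibCat.fpFst G f).map m) rfl rfl this
  have h2 : m.hom.snd = 𝟙 _ := by
    apply Over.OverMorphism.ext
    haveI : (FibCat.overCat U).p.IsHomLift (𝟙 W) ((FibCat.fpSnd G f).map m) :=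
      (BasedFunctor.isHomLift_iff (FibCat.fpSnd G f) (𝟙 W) m).2 hml
    exact @left_eq_of_lift _ _ W _ _ ((FibCat.fpSnd G f).map m) rfl rfl this
  have hw := m.hom.w
  rw [h1, h2] at hw
  change G.map (𝟙 _) ≫ (i φ').hom = (i φ).hom ≫ f.map (𝟙 _) at hw
  rw [show G.map (𝟙 (idObj W)) = 𝟙 _ from G.toFunctor.map_id _,
    show f.map (𝟙 (Over.mk t)) = 𝟙 _ from f.toFunctor.map_id _, Category.id_comp, Category.comp_id] at hw
  simp only [i, Iso.trans_hom, asIso_hom, cancel_epi] at hw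
  exact Subtype.ext hw.symm

theorem exists_point {W' : Over S} (G : FibCat.overCat W' ⥤ᵇ 𝒳) (z : (FibCat.fp G f).obj) :
    ∃ (t : z.obj.fst.left ⟶ U) (m : f.obj (Over.mk t) ⟶ G.obj (Over.mk (𝟙 W'))),
      𝒳.p.IsHomLift z.obj.fst.hom m := by
  have e : z.obj.snd.left = z.obj.fst.left := (FibCat.fpSnd G f).w_obj z
  have hi := fp_overId z
  obtain ⟨⟨zf, ⟨zl, ⟨⟩, zh⟩, i⟩, hz⟩ := z
  dsimp only at e hi ⊢
  subst e
  refine ⟨zh, i.inv ≫ G.map (Fib.toTerm zf), ?_⟩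
  have h1 : 𝒳.p.IsHomLift (𝟙 zf.left) i.inv := (OverId.inv hi).lift (f.w_obj _)
  have h2 : 𝒳.p.IsHomLift zf.hom (G.map (Fib.toTerm zf)) := Desc.lift_map G (Fib.toTerm zf)
  exact IsHomLift.comp_lift_id_left' 𝒳.p zf.left i.inv zf.hom _

/-- An object lifts to the atlas over a flat cover of finite presentation. -/
theorem exists_cover (hg : FibCat.IsFibGrpd 𝒳.p) (hp : AlgSt.RepByAlgSpWith FLP f)
    (hs : AlgSt.RepByAlgSpWith IsSurjectiveMor f) {R : Over S} (a : 𝒳.obj) (ha : 𝒳.p.obj a = R) :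
    ∃ (W : Over S) (h : W ⟶ R) (t : W ⟶ U) (ξ : f.obj (Over.mk t) ⟶ a),
      𝒳.p.IsHomLift h ξ ∧ Flat h.left ∧ LocallyOfFinitePresentation h.left ∧ Surjective h.left := by
  obtain ⟨G, ι, hι⟩ := exists_overCat_functor hg a ha
  have hι' : 𝒳.p.IsHomLift (𝟙 R) ι.hom := hι.lift (G.w_obj _)
  obtain ⟨F, e, he, hq⟩ := hp R G
  have hqs : IsSurjectiveMor (AlgSt.spMapOfOver (BasedFunctor.comp e (FibCat.fpFst G f))) :=
    Wit.prop_of_equiv (fun _ _ hX hX' i hi a ha => haveI := hi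
      Groth.L24.Tors.pBase_surj.iso_left hX hX' (IsAlgSpace.yon_obj R) i ha) (hs R G) F.property e he
  obtain ⟨W, π, hπ, hπs⟩ := F.property.atlas
  let z := e.obj ⟨W, (AlgSp.J S).uliftYonedaEquiv π⟩
  obtain ⟨t₀, m, hm⟩ := exists_point G z
  let h : W ⟶ R := AlgSt.secHom (BasedFunctor.comp e (FibCat.fpFst G f)) ⟨W, (AlgSp.J S).uliftYonedaEquiv π⟩
  have hW : z.obj.fst.left = W := e.w_obj _
  have hh : π ≫ AlgSt.spMapOfOver (BasedFunctor.comp e (FibCat.fpFst G f)) = (yon S).map h ≫ 𝟙 _ := by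
    rw [Category.comp_id]
    apply (AlgSp.J S).uliftYonedaEquiv.injective
    rw [GrothendieckTopology.uliftYonedaEquiv_comp, GrothendieckTopology.uliftYonedaEquiv_uliftYoneda_map]
    rfl
  refine ⟨W, h, eqToHom hW.symm ≫ t₀,
    f.map (Over.homMk (eqToHom hW.symm) : Over.mk (eqToHom hW.symm ≫ t₀) ⟶ Over.mk t₀) ≫ m ≫ ι.hom, ?_,
    hq.1 π (𝟙 _) h hπ (Groth.L23.repWith_of_isIso _) hh, hq.2 π (𝟙 _) h hπ (Groth.L23.repWith_of_isIso _) hh,
    ⟨fun x => ?_⟩⟩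
  · have h1 : 𝒳.p.IsHomLift (eqToHom hW.symm)
        (f.map (Over.homMk (eqToHom hW.symm) : Over.mk (eqToHom hW.symm ≫ t₀) ⟶ Over.mk t₀)) :=
      Desc.lift_map f (Over.homMk (eqToHom hW.symm) : Over.mk (eqToHom hW.symm ≫ t₀) ⟶ Over.mk t₀)
    have h2 : 𝒳.p.IsHomLift z.obj.fst.hom (m ≫ ι.hom) :=
      IsHomLift.comp_lift_id_right' 𝒳.p z.obj.fst.hom m R ι.hom
    exact inferInstanceAs (𝒳.p.IsHomLift (eqToHom hW.symm ≫ z.obj.fst.hom) (f.map _ ≫ m ≫ ι.hom))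
  · obtain ⟨p, hp'⟩ := hqs (Points.ofScheme R x)
    obtain ⟨y, rfl⟩ := Groth.L23.surjective_ofPt hπs p
    rw [Points.map_ofPt, hh, Category.comp_id, Groth.L23.ofPt_map] at hp'
    exact ⟨y, (Points.schemeEquiv R).injective hp'⟩

theorem cover_mem {W R : Over S} (h : W ⟶ R) [Flat h.left] [LocallyOfFinitePresentation h.left]
    [Surjective h.left] : Sieve.generate (Presieve.singleton h) ∈ AlgSp.J S R := by
  have := Groth.L24.Boot.fppf_mem_J h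
  rwa [Sieve.ofArrows, Presieve.ofArrows_pUnit] at this

variable (hst : Stk.IsStack (AlgSp.J S) 𝒳) (hp : AlgSt.RepByAlgSpWith FLP f)
  (hs : AlgSt.RepByAlgSpWith IsSurjectiveMor f)

include hst hp hs in
theorem small_vert {R : Over S} (a b : 𝒳.obj) (ha : 𝒳.p.obj a = R) (hb : 𝒳.p.obj b = R) :
    Small.{u} {φ : a ⟶ b // 𝒳.p.IsHomLift (𝟙 R) φ} := by
  obtain ⟨W, h, t, ξ, hξ, h1, h2, h3⟩ := exists_cover hst.1 hp hs b hb
  obtain ⟨aW, α, hα⟩ := Groth.L09.Gerb.exists_pull hst.1 a ha h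
  have haW : 𝒳.p.obj aW = W := IsHomLift.domain_eq 𝒳.p h α
  have := small_vert_chart hst.1 hp aW haW t
  have key : ∀ φ : {φ : a ⟶ b // 𝒳.p.IsHomLift (𝟙 R) φ},
      ∃ χ : aW ⟶ f.obj (Over.mk t), 𝒳.p.IsHomLift (𝟙 W) χ ∧ χ ≫ ξ = α ≫ φ.1 := fun φ => by
    have := φ.2
    have : 𝒳.p.IsHomLift h (α ≫ φ.1) := IsHomLift.comp_lift_id_right' 𝒳.p h α R φ.1
    obtain ⟨χ, hl, he⟩ := Groth.L09.Gerb.connect hst.1 h (α ≫ φ.1) ξ
    exact ⟨χ.hom, hl, he⟩
  choose χ hχ hχe using key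
  refine small_of_injective (f := fun φ => (⟨χ φ, hχ φ⟩ : {χ // 𝒳.p.IsHomLift (𝟙 W) χ})) fun φ φ' e => ?_
  have he : χ φ = χ φ' := congrArg Subtype.val e
  have hmem := cover_mem h
  have : (Stk.resSieve (Sieve.generate (Presieve.singleton h)) 𝒳).IsEquivalence := hst.2 _ hmem
  have := φ.2
  have := φ'.2
  refine Subtype.ext (Groth.L09.Stk.eq_of_locally hst.1 (R := Sieve.generate (Presieve.singleton h)) inferInstance φ.1 φ'.1
    fun T g hg => ?_)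
  obtain ⟨Z, k, _, hk, rfl⟩ := hg
  cases hk
  obtain ⟨aT, ρ, hρ⟩ := Groth.L09.Gerb.exists_pull hst.1 aW haW k
  exact ⟨aT, ρ ≫ α, inferInstance, by rw [Category.assoc, Category.assoc, ← hχe φ, ← hχe φ', he]⟩

include hst hp hs in
theorem small_hom (a b : 𝒳.obj) : Small.{u} (a ⟶ b) := by
  choose b' β hβ using fun g : 𝒳.p.obj a ⟶ 𝒳.p.obj b => Groth.L09.Gerb.exists_pull hst.1 b rfl g
  have := fun g => small_vert hst hp hs a (b' g) rfl (haveI := hβ g; IsHomLift.domain_eq 𝒳.p g (β g))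
  refine small_of_surjective
    (f := fun x : Σ g, {φ : a ⟶ b' g // 𝒳.p.IsHomLift (𝟙 (𝒳.p.obj a)) φ} => x.2.1 ≫ β x.1) fun φ => ?_
  have := hβ (𝒳.p.map φ)
  have : 𝒳.p.IsHomLift (𝒳.p.map φ) φ := inferInstance
  obtain ⟨χ, hχ, hχe⟩ := Groth.L09.Gerb.connect hst.1 (𝒳.p.map φ) φ (β (𝒳.p.map φ))
  exact ⟨⟨_, χ.hom, hχ⟩, hχe⟩

/-- Descent data for objects over a base. -/
def Code (f : FibCat.overCat U ⥤ᵇ 𝒳) (R : Over S) : Type (max (u + 1) v) :=
  Σ (W : Over S) (h : W ⟶ R) (t : W ⟶ U),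
    {φ : (BasedFunctor.comp (AlgSt.overMap t) f).obj (Desc.pr₁ h) ⟶
      (BasedFunctor.comp (AlgSt.overMap t) f).obj (Desc.pr₂ h) // 𝒳.p.IsHomLift (𝟙 (pullback h h)) φ}

/-- An object with given descent data. -/
def HasCode {R : Over S} (c : Code f R) (a : 𝒳.obj) : Prop :=
  ∃ ξ : (BasedFunctor.comp (AlgSt.overMap c.2.2.1) f).obj (Over.mk (𝟙 c.1)) ⟶ a,
    𝒳.p.IsHomLift c.2.1 ξ ∧ Sieve.generate (Presieve.singleton c.2.1) ∈ AlgSp.J S R ∧
      c.2.2.2.1 ≫ Desc.trav _ ξ (Desc.pr₂ c.2.1) = Desc.trav _ ξ (Desc.pr₁ c.2.1)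

include hst hp hs in
theorem exists_code {R : Over S} (a : 𝒳.obj) (ha : 𝒳.p.obj a = R) : ∃ c : Code f R, HasCode c a := by
  obtain ⟨W, h, t, ξ, hξ, h1, h2, h3⟩ := exists_cover hst.1 hp hs a ha
  let o : Over.mk (𝟙 W ≫ t) ⟶ Over.mk t := Over.homMk (𝟙 W) rfl
  have : 𝒳.p.IsHomLift (𝟙 W) (f.map o) := Desc.lift_map f o
  let ξ' : (BasedFunctor.comp (AlgSt.overMap t) f).obj (Over.mk (𝟙 W)) ⟶ a := f.map o ≫ ξ
  have hξ' : 𝒳.p.IsHomLift h ξ' := IsHomLift.comp_lift_id_left' 𝒳.p W (f.map o) h ξ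
  obtain ⟨φ, hφ, hφe⟩ := Desc.exists_datum (BasedFunctor.comp (AlgSt.overMap t) f) hst.1 ξ' (h := h)
  exact ⟨⟨W, h, t, φ, hφ⟩, ξ', hξ', cover_mem h, hφe⟩

include hst in
theorem exists_hom_of_code {R : Over S} {c : Code f R} {a a' : 𝒳.obj} (ha : 𝒳.p.obj a = R)
    (ha' : 𝒳.p.obj a' = R) (h : HasCode c a) (h' : HasCode c a') :
    ∃ μ : a ⟶ a', 𝒳.p.IsHomLift (𝟙 R) μ := by
  obtain ⟨ξ, hξ, hm, he⟩ := h
  obtain ⟨ξ', hξ', -, he'⟩ := h'
  obtain ⟨W, h, t, φ, hφ⟩ := c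
  exact Desc.exists_hom_of_datum_eq (BasedFunctor.comp (AlgSt.overMap t) f) hst hm ha ha' ξ ξ' φ he he'

include hst in
/-- Objects over one base up to isomorphism over the identity. -/
def fibSetoid (R : Over S) : Setoid {a : 𝒳.obj // 𝒳.p.obj a = R} where
  r a b := ∃ μ : a.1 ⟶ b.1, 𝒳.p.IsHomLift (𝟙 R) μ
  iseqv :=
    { refl := fun a => ⟨𝟙 _, IsHomLift.id a.2⟩
      symm := fun {a b} ⟨μ, hμ⟩ => by
        have := Groth.L09.Fib.isIso_of_isFibGrpd 𝒳.p hst.1 (𝟙 R) μ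
        haveI : 𝒳.p.IsHomLift (𝟙 R) (asIso μ).hom := hμ
        exact ⟨inv μ, IsHomLift.lift_id_inv 𝒳.p R (asIso μ)⟩
      trans := fun ⟨μ, hμ⟩ ⟨ν, hν⟩ => ⟨μ ≫ ν, IsHomLift.comp_lift_id_left' 𝒳.p R μ (𝟙 R) ν⟩ }

include hst hp hs in
theorem small_classes (R : Over S) : Small.{u + 1} (Quotient (fibSetoid hst R)) := by
  have hsm : ∀ (a b : 𝒳.obj), Small.{u + 1} (a ⟶ b) := fun a b =>
    haveI := small_hom hst hp hs a b
    small_lift.{v, u + 1, u} _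
  have : Small.{u + 1} (Code f R) := by
    unfold Code
    infer_instance
  choose c hc using fun q : Quotient (fibSetoid hst R) => exists_code hst hp hs q.out.1 q.out.2
  refine small_of_injective (f := c) fun q q' h => ?_
  have := exists_hom_of_code hst q.out.2 q'.out.2 (hc q) (h ▸ hc q')
  rw [← q.out_eq, ← q'.out_eq]
  exact Quotient.sound this

include hst hp hs in
/-- A stack with a flat atlas from a scheme is equivalent to a category in the standard universes. -/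
theorem exists_model : ∃ (𝒳' : AlgSt.Cat S) (e : 𝒳' ⥤ᵇ 𝒳), FibCat.IsEquivOver e := by
  have := fun R => small_classes hst hp hs R
  let M : Type (u + 1) := Σ R : Over S, Shrink.{u + 1} (Quotient (fibSetoid hst R))
  let r : M → 𝒳.obj := fun m => ((equivShrink (Quotient (fibSetoid hst m.1))).symm m.2).out.1
  have hsm : LocallySmall.{u} (InducedCategory 𝒳.obj r) := ⟨fun a b =>
    haveI := small_hom hst hp hs (r a) (r b)
    small_of_injective (f := fun φ => φ.hom) fun _ _ h => InducedCategory.hom_ext h⟩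
  let F : ShrinkHoms.{u + 1} (InducedCategory 𝒳.obj r) ⥤ 𝒳.obj :=
    ShrinkHoms.inverse _ ⋙ inducedFunctor r
  let 𝒳' : AlgSt.Cat S := BasedCategory.ofFunctor (F ⋙ 𝒳.p)
  let e : 𝒳' ⥤ᵇ 𝒳 := { toFunctor := F, w := rfl }
  have : e.toFunctor.Full := inferInstanceAs F.Full
  have : e.toFunctor.Faithful := inferInstanceAs F.Faithful
  refine ⟨𝒳', e, isEquivOver_of_overId e fun a => ?_⟩
  let m : M := ⟨𝒳.p.obj a, equivShrink _ ⟦⟨a, rfl⟩⟧⟩
  have hm : ∃ μ : r m ⟶ a, 𝒳.p.IsHomLift (𝟙 (𝒳.p.obj a)) μ := by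
    have hq : Quotient.mk (fibSetoid hst (𝒳.p.obj a)) ((equivShrink _).symm m.2).out =
        Quotient.mk (fibSetoid hst (𝒳.p.obj a)) ⟨a, rfl⟩ :=
      (Quotient.out_eq _).trans (Equiv.symm_apply_apply _ _)
    obtain ⟨μ, hμ⟩ := Quotient.exact hq
    exact ⟨μ, hμ⟩
  obtain ⟨μ, hμ⟩ := hm
  have hiso : IsIso μ := by
    haveI := hμ
    exact Groth.L09.Fib.isIso_of_isFibGrpd 𝒳.p hst.1 (𝟙 (𝒳.p.obj a)) μ
  exact ⟨ShrinkHoms.toShrinkHoms (m : InducedCategory 𝒳.obj r), asIso μ, overId_of_lift hμ⟩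

include hst hp hs in
theorem exists_model_atl : ∃ (𝒳' : AlgSt.Cat S) (e : 𝒳' ⥤ᵇ 𝒳) (f' : FibCat.overCat U ⥤ᵇ 𝒳'),
    FibCat.IsEquivOver e ∧ Cand.Atl f' := by
  obtain ⟨𝒳', e, he⟩ := exists_model hst hp hs
  obtain ⟨c, hc, -, -⟩ := exists_inverse he
  exact ⟨𝒳', e, BasedFunctor.comp f c, he, (L09.Fib.isStack_iff _ he).2 hst,
    (repWith_postcomp hc f).2 hp, (repWith_postcomp hc f).2 hs⟩

include hst hp hs in
/-- A stack in any universes with a flat atlas from a scheme is algebraic. -/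
theorem isAlgStack : AlgSt.IsAlgStack Scheme.fppfPrecoverage 𝒳 := by
  obtain ⟨𝒳', e, f', he, hA⟩ := exists_model_atl hst hp hs
  exact isAlgStack_of_equiv he (Cand.isAlgStack_of_flat_atlas hA)

include hst hp hs in
/-- A stack in any universes with a flat atlas from a scheme smooth over the base is smooth. -/
theorem locQ_smooth_toSelf (hU : Smooth U.hom) : AlgSt.LocQ (LocP @Smooth) (FibCat.toSelf 𝒳) := by
  obtain ⟨𝒳', e, f', he, hA⟩ := exists_model_atl hst hp hs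
  obtain ⟨V, q, hq, hqs, hV⟩ := Cand.exists_smooth_atlas hA
  exact locQ_toSelf_of_chart Groth.L23.etLocal_smooth (BasedFunctor.comp q e)
    ((repWith_postcomp he q).2 hq) ((repWith_postcomp he q).2 hqs) (hV hU)

end Groth.L09.Artin.Model
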