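import Groth.Agent.L09.Artin.Apps.Model
import Groth.Agent.L24.St.DiagRep
import Groth.Agent.L24.St.ChartTop
import Groth.Agent.L24.Tors.StackProof

/-!
# Quotient stacks with sheaf torsors by flat groups of finite presentation
-/

set_option autoImplicit false
set_option backward.isDefEq.respectTransparency false
set_option backward.isDefEq.respectTransparency.types false

universe v w u

open CategoryTheory CategoryTheory.Limits MonoidalCategory AlgebraicGeometry AlgSp

noncomputable section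

namespace Groth.L09.Artin.Model

open Groth.L24.St
open Groth.L09.Artin.Res (FLP)

variable {S : Scheme.{u}}

/-- Composites with a functor to a category in any universes. -/
theorem repWith_comp_gen {P : MorphismProperty (Sp S)} (hB : PBase P) (hC : PComp P)
    (hL : IsLocalOnBase AlgSp.IsFppfCover P) {𝒳 : AlgSt.Cat S} {𝒴 : AlgSt.Cat S}
    {𝒵 : BasedCategory.{v, w} (Over S)} (h𝒳 : FibCat.IsFibGrpd 𝒳.p) (h𝒴 : FibCat.IsFibGrpd 𝒴.p)
    {f : 𝒳 ⥤ᵇ 𝒴} {g : 𝒴 ⥤ᵇ 𝒵} (hf : AlgSt.RepByAlgSpWith P f) (hg : AlgSt.RepByAlgSpWith P g) :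
    AlgSt.RepByAlgSpWith P (BasedFunctor.comp f g) := by
  intro U y
  obtain ⟨G, e, he, hb⟩ := hg U y
  obtain ⟨V, a, e', hV, he', ⟨i⟩, ha⟩ := exists_space_prop hasAtlasCovers_fppf hB hL h𝒳 h𝒴 hf G.property
    (BasedFunctor.comp e (FibCat.fpSnd y g))
  let Θ : FibCat.fp (BasedFunctor.comp e (FibCat.fpSnd y g)) f ⥤ᵇ FibCat.fp (FibCat.fpSnd y g) f :=
    fpMap e (BasedFunctor.id _) (Iso.refl _) (Iso.refl _)
  refine ⟨⟨V, hV⟩, BasedFunctor.comp e' (BasedFunctor.comp Θ (fpComp y f g)),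
    isEquivOver_comp he' (isEquivOver_comp (fpMap_isEquivOver he (isEquivOver_id _) _ _)
      (fpComp_isEquivOver y f g)), ?_⟩
  have key : AlgSt.spMapOfOver (BasedFunctor.comp (BasedFunctor.comp e' (BasedFunctor.comp Θ (fpComp y f g)))
      (FibCat.fpFst y (BasedFunctor.comp f g))) =
      a ≫ AlgSt.spMapOfOver (BasedFunctor.comp e (FibCat.fpFst y g)) := by
    rw [← spMapOfOver_ofSpMap_comp]
    exact spMapOfOver_congr (whiskerR i (BasedFunctor.comp e (FibCat.fpFst y g)))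
  rw [key]
  exact hC hV G.property (IsAlgSpace.yon_obj U) _ _ ha hb

theorem pComp_surj : PComp (IsSurjectiveMor : MorphismProperty (Sp S)) := fun _ _ _ _ _ _ a b ha hb z => by
  obtain ⟨y, rfl⟩ := hb z
  obtain ⟨x, rfl⟩ := ha y
  exact ⟨x, by rw [Points.map_comp]⟩

variable {B : Sp S} (hB : IsAlgSpace B) {G : Over B} [GrpObj G] (hG : IsAlgSpace G.left)
  (hf : LocP (@Flat ⊓ @LocallyOfFinitePresentation) G.hom) {X : Over B} (aX : GAction G X)
  {X₀ : Over S} {π : (yon S).obj X₀ ⟶ X.left} (hX : IsAlgSpace X.left) (hπ : RepWith @Etale π)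
  (hπs : RepWith @Surjective π)

/-- The atlas of a quotient stack induced by an atlas of the space. -/
abbrev quotAtlas (π : (yon S).obj X₀ ⟶ X.left) :
    FibCat.overCat X₀ ⥤ᵇ AlgSt.SpQuotSt Scheme.fppfPrecoverage G aX :=
  BasedFunctor.comp (AlgSt.ofOverCat X₀)
    (BasedFunctor.comp (AlgSt.ofSpMap π) (AlgSt.spQuotMap Scheme.fppfPrecoverage G aX))

include hB hG hX in
theorem repWith_quotAtlas {P : MorphismProperty (Sp S)} (hPB : PBase P) (hPC : PComp P)
    (hPL : IsLocalOnBase AlgSp.IsFppfCover P) (hP : P G.hom) (hπP : P π) :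
    AlgSt.RepByAlgSpWith P (quotAtlas aX π) :=
  (repWith_precomp (ofOverCat_isEquivOver X₀) _).2
    (repWith_comp_gen hPB hPC hPL (ofSp_isFibGrpd _) (ofSp_isFibGrpd _)
      (repWith_ofSpMap_of_prop hPB (IsAlgSpace.yon_obj X₀) hX π hπP)
      (Groth.L24.Tors.Quot.repByAlgSpWith_trivMap aX hB hG P hPB hPL hP))

include hB hG hf hX hπ in
theorem flp_quotAtlas : AlgSt.RepByAlgSpWith FLP (quotAtlas aX π) := by
  have hs : FLP π := Res.flp_of_smooth
    (Groth.L24.St.locP_of_repWith_etale (P := @Smooth) (fun _ h => by have := h; infer_instance) hπ)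
  have hg : FLP G.hom := ⟨Groth.L23.locP_mono (fun _ h => h.1) hf, Groth.L23.locP_mono (fun _ h => h.2) hf⟩
  have h1 := repWith_quotAtlas hB hG aX hX (pBase_locP Groth.L23.etLocal_flat) (pComp_locP Groth.L23.etLocal_flat)
    (Groth.L24.Tors.isLocalOnBase_fppf_locP Groth.L23.etLocal_flat) hg.1 hs.1
  have h2 := repWith_quotAtlas hB hG aX hX (pBase_locP Groth.L23.etLocal_lfp) (pComp_locP Groth.L23.etLocal_lfp)
    (Groth.L24.Tors.isLocalOnBase_fppf_locP Groth.L23.etLocal_lfp) hg.2 hs.2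
  exact repWith_mono (fun _ _ _ _ h => ⟨Groth.L23.locP_mono (fun _ h => h.1) h, Groth.L23.locP_mono (fun _ h => h.2) h⟩)
    (repWith_locP_and h1 h2)

include hB hG hX hπs in
theorem surjective_quotAtlas : AlgSt.RepByAlgSpWith IsSurjectiveMor (quotAtlas aX π) :=
  repWith_quotAtlas hB hG aX hX Groth.L24.Tors.pBase_surj pComp_surj Groth.L24.Tors.isLocalOnBase_fppf_surj
    (Groth.L24.Tors.surjective_group hB hG)
    (fun p => by obtain ⟨y, rfl⟩ := Groth.L23.surjective_ofPt hπs p; exact ⟨Points.ofScheme X₀ y, by rw [Points.map_ofPt, Category.id_comp]⟩)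

include hB hG hf hX in
theorem isAlgStack_spQuotSt : AlgSt.IsAlgStack Scheme.fppfPrecoverage (AlgSt.SpQuotSt Scheme.fppfPrecoverage G aX) := by
  obtain ⟨X₀, π, hπ, hπs⟩ := hX.atlas
  exact isAlgStack Groth.L24.Tors.isStack_spQuotSt (flp_quotAtlas hB hG hf aX hX hπ)
    (surjective_quotAtlas hB hG aX hX hπs)

/-- The classifying stack of a flat group space of finite presentation over the base is smooth. -/
theorem locQ_smooth_spBG {G : Over ((yon S).obj (Over.mk (𝟙 S)))} [GrpObj G] (hG : IsAlgSpace G.left)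
    (hf : LocP (@Flat ⊓ @LocallyOfFinitePresentation) G.hom) :
    AlgSt.LocQ (LocP @Smooth) (FibCat.toSelf (AlgSt.SpBG Scheme.fppfPrecoverage G)) := by
  have hB := IsAlgSpace.yon_obj (Over.mk (𝟙 S))
  let X : Over ((yon S).obj (Over.mk (𝟙 S))) := 𝟙_ _
  let π : (yon S).obj (Over.mk (𝟙 S)) ⟶ X.left := 𝟙 _
  have hπ : RepWith @Etale π := Groth.L23.repWith_of_isIso _
  have hπs : RepWith @Surjective π := Groth.L23.repWith_of_isIso _
  exact locQ_smooth_toSelf Groth.L24.Tors.isStack_spQuotSt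
    (flp_quotAtlas hB hG hf (AlgSt.trivGAction G) hB hπ)
    (surjective_quotAtlas hB hG (AlgSt.trivGAction G) hB hπs) (inferInstanceAs (Smooth (𝟙 S)))

end Groth.L09.Artin.Model
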